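import Groth.Prelude.Def_CInt
import Mathlib

/-!
Schematically dense open subschemes.
-/

set_option autoImplicit false

open CategoryTheory CategoryTheory.Limits AlgebraicGeometry TopologicalSpace Opposite

universe u

set_option backward.isDefEq.respectTransparency false
set_option backward.defeqAttrib.useBackward true

namespace Groth.Agent.RatDense

variable {X : Scheme.{u}}

/-- Restriction of sections. -/
noncomputable abbrev res {U V : X.Opens} (h : V ≤ U) : Γ(X, U) ⟶ Γ(X, V) := X.presheaf.map (homOfLE h).op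

theorem res_res {U V W : X.Opens} (h : V ≤ U) (h' : W ≤ V) (s : Γ(X, U)) :
    res h' (res h s) = res (h'.trans h) s := by
  rw [← ConcreteCategory.comp_apply, ← Functor.map_comp]
  rfl

theorem res_eq_zero_mono {U V W : X.Opens} (h : V ≤ U) (h' : W ≤ V) {s : Γ(X, U)} (hs : res h s = 0) :
    res (h'.trans h) s = 0 := by rw [← res_res h h', hs, map_zero]

theorem eq_zero_of_res {U : X.Opens} (hU : CInt.IsSchematicallyDense U) {V : X.Opens} (s : Γ(X, V))
    (h : res (inf_le_left : V ⊓ U ≤ V) s = 0) : s = 0 :=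
  hU V (h.trans (map_zero _).symm)

theorem eq_zero_of_germ {U : X.Opens} (s : Γ(X, U))
    (h : ∀ x, ∀ hx : x ∈ U, X.presheaf.germ U x hx s = 0) : s = 0 :=
  X.IsSheaf.section_ext fun x hx => by
    obtain ⟨W, hxW, i₁, i₂, e⟩ := X.presheaf.germ_eq x hx hx s 0 ((h x hx).trans (map_zero _).symm)
    exact ⟨W, i₁.le, hxW, e⟩

/-- Schematic density can be tested on affine opens. -/
theorem of_forall_affine {U : X.Opens}
    (h : ∀ x : X, ∀ O : X.Opens, x ∈ O → ∃ W : X.Opens, x ∈ W ∧ W ≤ O ∧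
      ∀ s : Γ(X, W), res (inf_le_left : W ⊓ U ≤ W) s = 0 → s = 0) :
    CInt.IsSchematicallyDense U := by
  intro V s t hst
  refine X.IsSheaf.section_ext fun x hx => ?_
  obtain ⟨W, hxW, hWV, hW⟩ := h x V hx
  refine ⟨W, hWV, hxW, sub_eq_zero.1 (hW _ ?_)⟩
  rw [map_sub, sub_eq_zero]
  show res _ (res hWV s) = res _ (res hWV t)
  rw [res_res, res_res, ← res_res (inf_le_left : V ⊓ U ≤ V) (inf_le_inf_right U hWV) s,
    ← res_res (inf_le_left : V ⊓ U ≤ V) (inf_le_inf_right U hWV) t]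
  exact congrArg _ hst

theorem mono {U U' : X.Opens} (h : U ≤ U') (hU : CInt.IsSchematicallyDense U) :
    CInt.IsSchematicallyDense U' := fun V s t hst =>
  hU V <| by
    show res _ s = res _ t
    rw [← res_res (inf_le_left : V ⊓ U' ≤ V) (inf_le_inf_left V h) s,
      ← res_res (inf_le_left : V ⊓ U' ≤ V) (inf_le_inf_left V h) t]
    exact congrArg _ hst

theorem dense_of_isSchematicallyDense {U : X.Opens} (hU : CInt.IsSchematicallyDense U) :
    Dense (U : Set X) := by
  refine dense_iff_inter_open.2 fun O hO ⟨x, hx⟩ => ?_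
  by_contra hne
  rw [Set.not_nonempty_iff_eq_empty] at hne
  have h0 : ((⟨O, hO⟩ : X.Opens) ⊓ U) = ⊥ := TopologicalSpace.Opens.ext hne
  haveI : Subsingleton Γ(X, (⟨O, hO⟩ : X.Opens) ⊓ U) := by rw [h0]; infer_instance
  have h1 : (1 : Γ(X, ⟨O, hO⟩)) = 0 := hU _ (Subsingleton.elim _ _)
  have h2 := congrArg (X.presheaf.germ ⟨O, hO⟩ x hx) h1
  rw [map_one, map_zero] at h2
  exact one_ne_zero h2

theorem of_dense [IsReduced X] {U : X.Opens} (hU : Dense (U : Set X)) :
    CInt.IsSchematicallyDense U := by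
  refine of_forall_affine fun x O hx => ⟨O, hx, le_rfl, fun s hs => eq_zero_of_basicOpen_eq_bot s ?_⟩
  have h1 : (O ⊓ U) ⊓ X.basicOpen s = ⊥ := by
    rw [← Scheme.basicOpen_res _ _ (homOfLE (inf_le_left : O ⊓ U ≤ O)).op]
    show X.basicOpen (res _ s) = ⊥
    rw [hs, Scheme.basicOpen_zero]
  by_contra hne
  obtain ⟨y, hy⟩ := Opens.nonempty_coeSort.1 ((Opens.not_nonempty_iff_eq_bot _).not_right.2 hne |> fun h => h.coe_sort)
  obtain ⟨z, hz, hzU⟩ := hU.inter_open_nonempty _ (X.basicOpen s).2 ⟨y, hy⟩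
  have : z ∈ ((O ⊓ U) ⊓ X.basicOpen s : X.Opens) := ⟨⟨X.basicOpen_le s hz, hzU⟩, hz⟩
  rw [h1] at this
  exact this

/-- Morphisms to a separated scheme agreeing on a schematically dense open are equal. -/
theorem eq_of_isSchematicallyDense {Y S : Scheme.{u}} (pY : Y ⟶ S) [IsSeparated pY] {U : X.Opens}
    (hU : CInt.IsSchematicallyDense U) (f g : X ⟶ Y) (h : f ≫ pY = g ≫ pY)
    (hfg : U.ι ≫ f = U.ι ≫ g) : f = g := by
  let X' : Over S := Over.mk (f ≫ pY)
  let Y' : Over S := Over.mk pY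
  let U' : Over S := Over.mk (U.ι ≫ f ≫ pY)
  let f' : X' ⟶ Y' := Over.homMk f
  let g' : X' ⟶ Y' := Over.homMk g h.symm
  let ι' : U' ⟶ X' := Over.homMk U.ι
  haveI : IsSeparated Y'.hom := ‹_›
  let e := (equalizer.ι f' g').left
  let l := (equalizer.lift ι' (Over.OverMorphism.ext hfg) : U' ⟶ equalizer f' g').left
  have hl : l ≫ e = U.ι := by
    show ((equalizer.lift ι' _ : U' ⟶ equalizer f' g') ≫ equalizer.ι f' g').left = _
    rw [equalizer.lift_ι]; rfl
  haveI : IsIso e := by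
    rw [IsClosedImmersion.isIso_iff_ker_eq_bot, eq_bot_iff]
    intro W a ha
    have h1 : e.app W.1 a = 0 := e.ideal_ker_le W ha
    show a = 0
    refine eq_zero_of_res hU a ?_
    have h2 : U.ι.app W.1 a = 0 := by
      rw [Scheme.Hom.congr_app hl.symm W.1]
      simp only [Scheme.Hom.comp_app, CommRingCat.comp_apply]
      erw [h1, map_zero, map_zero]
    rw [Scheme.Opens.ι_app] at h2
    have hle : W.1 ⊓ U ≤ U.ι ''ᵁ (U.ι ⁻¹ᵁ W.1) := by
      rw [Scheme.Hom.image_preimage_eq_opensRange_inf, Scheme.Opens.opensRange_ι, inf_comm]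
    have h3 := res_eq_zero_mono _ hle h2
    exact h3
  rw [← cancel_epi e]
  exact congrArg (fun j : _ ⟶ Y' => j.left) (equalizer.condition f' g')

/-- A basic open of a section with regular germs is schematically dense. -/
theorem of_germ_regular (s : Γ(X, ⊤))
    (hs : ∀ x : X, X.presheaf.germ ⊤ x trivial s ∈ nonZeroDivisors (X.presheaf.stalk x)) :
    CInt.IsSchematicallyDense (X.basicOpen s) := by
  refine of_forall_affine fun x O hx => ?_
  obtain ⟨_, ⟨W : X.Opens, hW, rfl⟩, hxW, hWO⟩ := X.isBasis_affineOpens.exists_subset_of_mem_open hx O.2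
  refine ⟨W, hxW, hWO, fun a ha => eq_zero_of_germ a fun y hy => ?_⟩
  have hle : X.basicOpen (res (le_top : W ≤ ⊤) s) ≤ W ⊓ X.basicOpen s := by
    rw [Scheme.basicOpen_res]
  obtain ⟨n, hn⟩ := exists_pow_mul_eq_zero_of_res_basicOpen_eq_zero_of_isCompact X hW.isCompact a
    (res (le_top : W ≤ ⊤) s) (res_eq_zero_mono _ hle ha)
  have h1 := congrArg (X.presheaf.germ W y hy) hn
  rw [map_zero, map_mul, map_pow, show X.presheaf.germ W y hy (res (le_top : W ≤ ⊤) s) =
    X.presheaf.germ ⊤ y trivial s from TopCat.Presheaf.germ_res_apply _ _ _ _ _] at h1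
  exact (mul_right_mem_nonZeroDivisors_eq_zero_iff (pow_mem (hs y) n)).1 (by rwa [mul_comm] at h1)

/-- Flat algebras keep the injectivity of finitely many multiplications. -/
theorem eq_zero_of_flat {A B : Type u} [CommRing A] [CommRing B] [Algebra A B] [Module.Flat A B]
    {ι : Type u} [Fintype ι] (a : ι → A) (hinj : ∀ s : A, (∀ i, a i * s = 0) → s = 0) (σ : B)
    (h : ∀ i, a i • σ = 0) : σ = 0 := by
  classical
  let f : A →ₗ[A] (ι → A) := LinearMap.pi fun i => LinearMap.mulLeft A (a i)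
  have hf : Function.Injective f :=
    (injective_iff_map_eq_zero f).2 fun s hs => hinj s fun i => congrFun hs i
  have h0 : f.lTensor B (σ ⊗ₜ[A] (1 : A)) = 0 := by
    apply (TensorProduct.piScalarRight A A B ι).injective
    rw [map_zero, LinearMap.lTensor_tmul, TensorProduct.piScalarRight_apply,
      TensorProduct.piScalarRightHom_tmul]
    funext i
    simpa [f] using h i
  have h1 := Module.Flat.lTensor_preserves_injective_linearMap (M := B) f hf
    (h0.trans (map_zero _).symm)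
  simpa using congrArg (TensorProduct.rid A B) h1

/-- Pullback of a schematically dense retrocompact open by a flat morphism. -/
theorem preimage_of_flat {X' : Scheme.{u}} (f : X' ⟶ X) [Flat f] {V : X.Opens}
    (hV : CInt.IsSchematicallyDense V)
    (hqc : ∀ W : X.Opens, IsAffineOpen W → IsCompact ((W ⊓ V : X.Opens) : Set X)) :
    CInt.IsSchematicallyDense (f ⁻¹ᵁ V) := by
  classical
  refine of_forall_affine fun y O hy => ?_
  obtain ⟨_, ⟨W : X.Opens, hW, rfl⟩, hyW, -⟩ :=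
    X.isBasis_affineOpens.exists_subset_of_mem_open (Set.mem_univ (f y)) isOpen_univ
  obtain ⟨_, ⟨W' : X'.Opens, hW', rfl⟩, hyW', hW'O⟩ :=
    X'.isBasis_affineOpens.exists_subset_of_mem_open (show y ∈ O ⊓ f ⁻¹ᵁ W from ⟨hy, hyW⟩)
      (O ⊓ f ⁻¹ᵁ W).2
  have e : W' ≤ f ⁻¹ᵁ W := fun z hz => (hW'O hz).2
  refine ⟨W', hyW', fun z hz => (hW'O hz).1, fun σ hσ => ?_⟩
  have hbasic : ∀ p : ((W ⊓ V : X.Opens) : Set X), ∃ a : Γ(X, W), X.basicOpen a ≤ W ⊓ V ∧ (p : X) ∈ X.basicOpen a :=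
    fun p => hW.exists_basicOpen_le (V := W ⊓ V) ⟨p, p.2⟩ p.2.1
  choose a ha hpa using hbasic
  obtain ⟨t, ht⟩ := (hqc W hW).elim_finite_subcover (fun p => (X.basicOpen (a p) : Set X))
    (fun p => (X.basicOpen (a p)).2) fun z hz => Set.mem_iUnion.2 ⟨⟨z, hz⟩, hpa ⟨z, hz⟩⟩
  letI := (f.appLE W W' e).hom.toAlgebra
  haveI : Module.Flat Γ(X, W) Γ(X', W') := f.flat_appLE hW hW' e
  have hn : ∀ p, ∃ n : ℕ, (a p) ^ n • σ = 0 := fun p => by
    have hle : X'.basicOpen (f.appLE W W' e (a p)) ≤ W' ⊓ f ⁻¹ᵁ V := by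
      rw [Scheme.Hom.appLE, CommRingCat.comp_apply, Scheme.basicOpen_res, ← Scheme.preimage_basicOpen]
      exact inf_le_inf_left _ (f.preimage_mono ((ha p).trans inf_le_right))
    obtain ⟨n, hn⟩ := exists_pow_mul_eq_zero_of_res_basicOpen_eq_zero_of_isCompact X' hW'.isCompact σ
      (f.appLE W W' e (a p)) (res_eq_zero_mono _ hle hσ)
    refine ⟨n, ?_⟩
    rw [Algebra.smul_def, map_pow]
    exact hn
  choose n hn using hn
  refine eq_zero_of_flat (ι := ↥t) (fun p => (a p.1) ^ n p.1) (fun s hs => ?_) σ fun p => hn p.1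
  refine eq_zero_of_res hV s (eq_zero_of_germ _ fun z hz => ?_)
  obtain ⟨p, hp, hzp⟩ := Set.mem_iUnion₂.1 (ht hz)
  have h1 := congrArg (X.presheaf.germ W z hz.1) (hs ⟨p, hp⟩)
  rw [map_zero, map_mul, map_pow] at h1
  have hu : IsUnit (X.presheaf.germ W z hz.1 (a p)) := (X.mem_basicOpen (a p) z hz.1).1 hzp
  exact (TopCat.Presheaf.germ_res_apply _ _ _ _ _).trans ((hu.pow (n p)).mul_right_eq_zero.1 h1)

end Groth.Agent.RatDense
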