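import Groth.Agent.RatDense.Basic
import Groth.Agent.RatNormal.SectionExt
import Groth.Agent.Depth.Basic
import Groth.Prelude.Def_CAlg
import Mathlib

/-!
Extension of functions across closed subsets where the depth is at least two.
-/

set_option autoImplicit false

open CategoryTheory CategoryTheory.Limits AlgebraicGeometry TopologicalSpace Opposite
open IsLocalRing (maximalIdeal)

universe u

set_option backward.isDefEq.respectTransparency false
set_option backward.defeqAttrib.useBackward true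

namespace Groth.Agent.RatDense

theorem exists_pair_of_two_le_depth {R : Type u} [CommRing R] [IsLocalRing R] [IsNoetherianRing R]
    (h : (2 : ℕ∞) ≤ LocCoh.depth R R) :
    ∃ f ∈ maximalIdeal R, ∃ g ∈ maximalIdeal R, f ∈ nonZeroDivisors R ∧
      ∀ a, g * a ∈ Ideal.span {f} → a ∈ Ideal.span {f} := by
  have hI : maximalIdeal R • (⊤ : Submodule R R) ≠ ⊤ := by
    rw [smul_eq_mul, Ideal.mul_top]; exact (IsLocalRing.maximalIdeal.isMaximal R).ne_top
  obtain ⟨rs, hlen, hmem, hreg⟩ := (Depth.le_idealDepth_iff hI 2).1 h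
  obtain ⟨f, g, rfl⟩ : ∃ f g, rs = [f, g] := by
    match rs, hlen with
    | [f, g], _ => exact ⟨f, g, rfl⟩
  refine ⟨f, hmem f (by simp), g, hmem g (by simp), ?_, fun a ha => ?_⟩
  · have h0 := hreg.regular_mod_prev 0 (by simp)
    simp only [List.take_zero, Ideal.ofList_nil, Submodule.bot_smul, List.getElem_cons_zero] at h0
    rw [mem_nonZeroDivisors_iff_right]
    intro z hz
    have h1 := (isSMulRegular_quotient_iff_mem_of_smul_mem _ f).1 h0 z
      (by simp [smul_eq_mul, mul_comm f z, hz])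
    simpa using h1
  · have h1 := hreg.regular_mod_prev 1 (by simp)
    simp only [List.take_succ_cons, List.take_zero, List.getElem_cons_succ, List.getElem_cons_zero] at h1
    have h2 := (isSMulRegular_quotient_iff_mem_of_smul_mem _ g).1 h1 a
      (by simpa [smul_eq_mul, Ideal.ofList, Ideal.mul_top] using ha)
    simpa [smul_eq_mul, Ideal.ofList, Ideal.mul_top] using h2

theorem mem_span_pow {R : Type u} [CommRing R] {f g : R} (hf : f ∈ nonZeroDivisors R)
    (h : ∀ a, g * a ∈ Ideal.span {f} → a ∈ Ideal.span {f}) (m k : ℕ) :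
    ∀ a, g ^ m * a ∈ Ideal.span {f ^ k} → a ∈ Ideal.span {f ^ k} := by
  induction m with
  | zero => intro a ha; simpa using ha
  | succ m ih =>
    intro a ha
    refine ih a ?_
    rw [pow_succ', mul_assoc] at ha
    generalize g ^ m * a = b at ha ⊢
    clear a ih
    induction k generalizing b with
    | zero => simp
    | succ k ihk =>
      obtain ⟨c, hc⟩ := Ideal.mem_span_singleton'.1 ha
      obtain ⟨d, rfl⟩ := Ideal.mem_span_singleton'.1 (h b (Ideal.mem_span_singleton'.2 ⟨c * f ^ k, by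
        rw [← hc, pow_succ, mul_assoc]⟩))
      have h1 : g * d ∈ Ideal.span {f ^ k} := by
        refine Ideal.mem_span_singleton'.2 ⟨c, sub_eq_zero.1 ((mem_nonZeroDivisors_iff_right.1 hf) _ ?_)⟩
        rw [sub_mul, mul_assoc, ← pow_succ, hc]; ring
      obtain ⟨e, he⟩ := Ideal.mem_span_singleton'.1 (ihk d h1)
      exact Ideal.mem_span_singleton'.2 ⟨e, by rw [pow_succ, ← mul_assoc, he]⟩

variable {X : Scheme.{u}}

theorem germ_res' {U V : X.Opens} (h : V ≤ U) (y : X) (hy : y ∈ V) (s : Γ(X, U)) :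
    X.presheaf.germ V y hy (res h s) = X.presheaf.germ U y (h hy) s :=
  TopCat.Presheaf.germ_res_apply _ _ _ _ _

/-- A section killed on the locus where a germwise regular section is invertible is zero. -/
theorem eq_zero_of_res_basicOpen {O W : X.Opens} (hOW : O ≤ W) (f : Γ(X, W))
    (hf : ∀ y (hy : y ∈ O), X.presheaf.germ W y (hOW hy) f ∈ nonZeroDivisors (X.presheaf.stalk y))
    (t : Γ(X, O)) (ht : res (inf_le_left : O ⊓ X.basicOpen f ≤ O) t = 0) : t = 0 := by
  refine eq_zero_of_germ t fun y hy => ?_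
  obtain ⟨_, ⟨A : X.Opens, hA, rfl⟩, hyA, hAO⟩ := X.isBasis_affineOpens.exists_subset_of_mem_open hy O.2
  have hle : X.basicOpen (res (hAO.trans hOW : A ≤ W) f) ≤ O ⊓ X.basicOpen f := by
    rw [Scheme.basicOpen_res]
    exact inf_le_inf_right _ hAO
  obtain ⟨n, hn⟩ := exists_pow_mul_eq_zero_of_res_basicOpen_eq_zero_of_isCompact X hA.isCompact
    (res hAO t) (res (hAO.trans hOW : A ≤ W) f) (by
      show res _ (res hAO t) = 0
      rw [res_res]
      exact res_eq_zero_mono _ hle ht)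
  have h1 := congrArg (X.presheaf.germ A y hyA) hn
  rw [map_zero, map_mul, map_pow, germ_res', germ_res'] at h1
  exact (mul_right_mem_nonZeroDivisors_eq_zero_iff (pow_mem (hf y hy) n)).1 (by rwa [mul_comm] at h1)

/-- Regularity of a germ spreads. -/
theorem exists_nhd_regular [IsLocallyNoetherian X] {W : X.Opens} (hW : IsAffineOpen W) (f : Γ(X, W))
    (x : X) (hxW : x ∈ W)
    (hf : X.presheaf.germ W x hxW f ∈ nonZeroDivisors (X.presheaf.stalk x)) :
    ∃ (N : X.Opens) (hN : N ≤ W), x ∈ N ∧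
      ∀ y (hy : y ∈ N), X.presheaf.germ W y (hN hy) f ∈ nonZeroDivisors (X.presheaf.stalk y) := by
  haveI : IsNoetherianRing Γ(X, W) := IsLocallyNoetherian.component_noetherian ⟨W, hW⟩
  let K := LinearMap.ker (LinearMap.mulLeft Γ(X, W) f)
  obtain ⟨t, ht⟩ := IsNoetherian.noetherian K
  have hu : ∀ k ∈ t, ∃ u : Γ(X, W), x ∈ X.basicOpen u ∧ u * k = 0 := by
    intro k hk
    have hfk : f * k = 0 := (ht.le (Submodule.subset_span hk) : k ∈ K)
    have h1 : X.presheaf.germ W x hxW k = 0 := by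
      refine (mem_nonZeroDivisors_iff_right.1 hf) _ ?_
      rw [← map_mul, mul_comm, hfk, map_zero]
    letI := TopCat.Presheaf.algebra_section_stalk X.presheaf (⟨x, hxW⟩ : W)
    haveI := hW.isLocalization_stalk ⟨x, hxW⟩
    obtain ⟨u, hu⟩ := (IsLocalization.map_eq_zero_iff (hW.primeIdealOf ⟨x, hxW⟩).asIdeal.primeCompl
      (X.presheaf.stalk x) k).1 h1
    exact ⟨u, (X.mem_basicOpen _ x hxW).2 (IsLocalization.map_units (X.presheaf.stalk x) u), hu⟩
  choose u hxu huk using hu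
  let v := ∏ k ∈ t.attach, u k.1 k.2
  refine ⟨X.basicOpen v, X.basicOpen_le v, ?_, fun y hy => ?_⟩
  · rw [X.mem_basicOpen _ x hxW, map_prod]
    exact IsUnit.prod_iff.2 fun k _ => (X.mem_basicOpen _ x hxW).1 (hxu k.1 k.2)
  have hyW := X.basicOpen_le v hy
  have hv : ∀ r ∈ K, v * r = 0 := by
    suffices K ≤ LinearMap.ker (LinearMap.mulLeft Γ(X, W) v) from fun r hr => this hr
    rw [← ht, Submodule.span_le]
    intro k hk
    show v * k = 0
    obtain ⟨c, hc⟩ : u k hk ∣ v := Finset.dvd_prod_of_mem (fun k : t => u k.1 k.2)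
      (Finset.mem_attach t ⟨k, hk⟩)
    rw [hc, mul_right_comm, huk, zero_mul]
  have hvu : IsUnit (X.presheaf.germ W y hyW v) := (X.mem_basicOpen _ y hyW).1 hy
  letI := TopCat.Presheaf.algebra_section_stalk X.presheaf (⟨y, hyW⟩ : W)
  haveI := hW.isLocalization_stalk ⟨y, hyW⟩
  rw [mem_nonZeroDivisors_iff_right]
  intro z hz
  obtain ⟨r, w, rfl⟩ := IsLocalization.exists_mk'_eq (hW.primeIdealOf ⟨y, hyW⟩).asIdeal.primeCompl z
  rw [show X.presheaf.germ W y hyW f = algebraMap Γ(X, W) (X.presheaf.stalk y) f from rfl,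
    mul_comm, IsLocalization.mul_mk'_eq_mk'_of_mul, IsLocalization.mk'_eq_zero_iff] at hz
  obtain ⟨w', hw'⟩ := hz
  have h2 : v * ((w' : Γ(X, W)) * r) = 0 := hv _ (by
    show f * ((w' : Γ(X, W)) * r) = 0
    rw [← hw']; ring)
  have h3 := congrArg (X.presheaf.germ W y hyW) h2
  rw [map_zero, map_mul, map_mul] at h3
  rw [IsLocalization.mk'_eq_mul_mk'_one]
  refine mul_eq_zero_of_left ?_ _
  exact ((IsLocalization.map_units (X.presheaf.stalk y) w').mul_right_eq_zero).1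
    (hvu.mul_right_eq_zero.1 h3)

/-- Positive depth outside an open makes it schematically dense. -/
theorem dense_of_depth_pos [IsLocallyNoetherian X] {U W : X.Opens}
    (hU : ∀ x ∈ W, x ∉ U → (1 : ℕ∞) ≤ LocCoh.depth (X.presheaf.stalk x) (X.presheaf.stalk x))
    (s : Γ(X, W)) (hs : res (inf_le_left : W ⊓ U ≤ W) s = 0) : s = 0 := by
  refine eq_zero_of_germ s fun y₀ hy₀ => ?_
  obtain ⟨_, ⟨A : X.Opens, hA, rfl⟩, hyA, hAW⟩ := X.isBasis_affineOpens.exists_subset_of_mem_open hy₀ W.2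
  haveI : IsNoetherianRing Γ(X, A) := IsLocallyNoetherian.component_noetherian ⟨A, hA⟩
  suffices res hAW s = 0 by
    rw [← germ_res' hAW y₀ hyA, this, map_zero]
  by_contra hne
  obtain ⟨P, hP, hle⟩ := exists_le_isAssociatedPrime_of_isNoetherianRing (R := Γ(X, A)) (x := res hAW s) hne
  obtain ⟨hPp, t, ht⟩ := isAssociatedPrime_iff.1 hP
  let q : PrimeSpectrum Γ(X, A) := ⟨P, hPp⟩
  let y := hA.fromSpec q
  have hyA' : y ∈ A := hA.range_fromSpec.le ⟨q, rfl⟩
  have hy : hA.primeIdealOf ⟨y, hyA'⟩ = q := hA.fromSpec.isOpenEmbedding.injective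
    (hA.fromSpec_primeIdealOf ⟨y, hyA'⟩)
  letI := TopCat.Presheaf.algebra_section_stalk X.presheaf (⟨y, hyA'⟩ : A)
  haveI := hA.isLocalization_stalk ⟨y, hyA'⟩
  have hgerm : ∀ r : Γ(X, A), X.presheaf.germ A y hyA' r = 0 → ∃ u, u ∉ P ∧ u * r = 0 := fun r hr => by
    obtain ⟨u, hu⟩ := (IsLocalization.map_eq_zero_iff (hA.primeIdealOf ⟨y, hyA'⟩).asIdeal.primeCompl
      (X.presheaf.stalk y) r).1 hr
    exact ⟨u, fun hm => u.2 ((SetLike.ext_iff.1 (congrArg PrimeSpectrum.asIdeal hy) (u : Γ(X, A))).2 hm), hu⟩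
  have hyU : y ∉ U := fun hyU => by
    obtain ⟨u, hu, hu0⟩ := hgerm (res hAW s) (by
      rw [germ_res', ← germ_res' (inf_le_left : W ⊓ U ≤ W) y ⟨hAW hyA', hyU⟩, hs, map_zero])
    exact hu (hle (by simpa [Submodule.mem_colon_singleton] using hu0))
  have hd := hU y (hAW hyA') hyU
  have hI : maximalIdeal (X.presheaf.stalk y) • (⊤ : Submodule (X.presheaf.stalk y) (X.presheaf.stalk y)) ≠ ⊤ := by
    rw [smul_eq_mul, Ideal.mul_top]; exact (IsLocalRing.maximalIdeal.isMaximal _).ne_top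
  haveI : IsNoetherianRing (X.presheaf.stalk y) :=
    IsLocalization.isNoetherianRing (hA.primeIdealOf ⟨y, hyA'⟩).asIdeal.primeCompl _ inferInstance
  have h0 : LocCoh.depth (X.presheaf.stalk y) (X.presheaf.stalk y) = 0 := by
    refine (Depth.idealDepth_eq_zero_iff hI).2 ⟨X.presheaf.germ A y hyA' t, fun e => ?_, fun r hr => ?_⟩
    · obtain ⟨u, hu, hu0⟩ := hgerm t e
      exact hu (ht.ge (by simpa [Submodule.mem_colon_singleton] using hu0))
    · obtain ⟨a, w, rfl⟩ := IsLocalization.exists_mk'_eq (hA.primeIdealOf ⟨y, hyA'⟩).asIdeal.primeCompl r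
      have haP : a ∈ P := by
        have := (IsLocalization.AtPrime.mk'_mem_maximal_iff (X.presheaf.stalk y)
          (hA.primeIdealOf ⟨y, hyA'⟩).asIdeal a w).1 hr
        rwa [hy] at this
      have hat : a * t = 0 := by simpa [Submodule.mem_colon_singleton] using ht.le haP
      rw [smul_eq_mul, IsLocalization.mk'_eq_mul_mk'_one, mul_right_comm,
        show algebraMap Γ(X, A) (X.presheaf.stalk y) a * X.presheaf.germ A y hyA' t =
          X.presheaf.germ A y hyA' (a * t) from (map_mul (X.presheaf.germ A y hyA').hom a t).symm,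
        hat, map_zero, zero_mul]
  rw [h0] at hd
  exact not_lt.2 hd (by exact_mod_cast Nat.zero_lt_one)

/-- A point of a nonempty closed set none of whose proper generalizations lie in it. -/
theorem exists_maximal_mem (D : Set X) (hD : IsClosed D) (hne : D.Nonempty) :
    ∃ x ∈ D, ∀ y ∈ D, y ⤳ x → y = x := by
  obtain ⟨p, hp⟩ := hne
  let c := irreducibleComponent (⟨p, hp⟩ : D)
  have hc := irreducibleComponent_mem_irreducibleComponents (⟨p, hp⟩ : D)
  haveI : QuasiSober D := (hD.isClosedEmbedding_subtypeVal).quasiSober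
  obtain ⟨x, hx⟩ := QuasiSober.sober hc.1 (isClosed_of_mem_irreducibleComponents _ hc)
  refine ⟨x, x.2, fun y hy hyx => ?_⟩
  have h1 : closure {(⟨y, hy⟩ : D)} ⊆ c := hc.2 isIrreducible_singleton.closure (by
    rw [← hx.def]
    exact closure_minimal (Set.singleton_subset_iff.2
      (specializes_iff_mem_closure.1 (Topology.IsInducing.subtypeVal.specializes_iff.1 hyx))) isClosed_closure)
  have h2 : x.1 ⤳ y := (hx.specializes (h1 (subset_closure rfl))).map continuous_subtype_val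
  exact (hyx.antisymm h2).eq

theorem exists_extend_section [IsLocallyNoetherian X] {U W : X.Opens} (hUW : U ≤ W)
    (hU : ∀ x ∈ W, x ∉ U → (2 : ℕ∞) ≤ LocCoh.depth (X.presheaf.stalk x) (X.presheaf.stalk x))
    (s : Γ(X, U)) : ∃ t : Γ(X, W), res hUW t = s := by
  have huniq : ∀ {O : X.Opens}, O ≤ W → ∀ a : Γ(X, O), res (inf_le_left : O ⊓ U ≤ O) a = 0 → a = 0 :=
    fun hO a ha => dense_of_depth_pos (fun x hx hxU => le_trans (by norm_num) (hU x (hO hx) hxU)) a ha
  let ι := {p : (O : X.Opens) × Γ(X, O) // ∃ (h₁ : U ≤ p.1) (_ : p.1 ≤ W), res h₁ p.2 = s}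
  let O₀ : X.Opens := ⨆ i : ι, i.1.1
  have hO₀W : O₀ ≤ W := iSup_le fun i => i.2.2.1
  have hUO₀ : U ≤ O₀ := le_iSup (fun i : ι => i.1.1) ⟨⟨U, s⟩, le_rfl, hUW, by simp [res]⟩
  have hcomp : TopCat.Presheaf.IsCompatible X.sheaf.1 (fun i : ι => i.1.1) (fun i => i.1.2) := by
    intro i j
    show res (inf_le_left : i.1.1 ⊓ j.1.1 ≤ i.1.1) i.1.2 = res (inf_le_right : i.1.1 ⊓ j.1.1 ≤ j.1.1) j.1.2
    rw [← sub_eq_zero]
    refine huniq (inf_le_left.trans i.2.2.1) _ ?_
    obtain ⟨h₁, -, e₁⟩ := i.2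
    obtain ⟨h₂, -, e₂⟩ := j.2
    rw [map_sub, res_res, res_res, sub_eq_zero, ← res_res h₁ (inf_le_right : i.1.1 ⊓ j.1.1 ⊓ U ≤ U),
      ← res_res h₂ (inf_le_right : i.1.1 ⊓ j.1.1 ⊓ U ≤ U), e₁, e₂]
  obtain ⟨(t₀ : Γ(X, O₀)), ht₀, -⟩ := X.sheaf.existsUnique_gluing' (fun i : ι => i.1.1) O₀
    (fun i => homOfLE (le_iSup (fun i : ι => i.1.1) i)) le_rfl (fun i => i.1.2) hcomp
  have ht₀' : ∀ i : ι, res (le_iSup (fun i : ι => i.1.1) i) t₀ = i.1.2 := ht₀
  have hs : res hUO₀ t₀ = s := ht₀' ⟨⟨U, s⟩, le_rfl, hUW, by simp [res]⟩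
  suffices hWO : W ≤ O₀ from ⟨res hWO t₀, by rw [res_res, hs]⟩
  intro x₀ hx₀
  by_contra hx₀O
  -- a maximal point of the complement
  obtain ⟨x, ⟨hxW, hxO⟩, hxmax⟩ : ∃ x, (x ∈ W ∧ x ∉ O₀) ∧ ∀ y ∈ W, y ∉ O₀ → y ⤳ x → y = x := by
    obtain ⟨x, hx, hmax⟩ := exists_maximal_mem (X := W.toScheme) ((W.ι ⁻¹ᵁ O₀ : W.toScheme.Opens) : Set W.toScheme)ᶜ
      (W.ι ⁻¹ᵁ O₀).2.isClosed_compl ⟨⟨x₀, hx₀⟩, hx₀O⟩
    refine ⟨W.ι x, ⟨x.2, hx⟩, fun y hyW hyO hy => ?_⟩
    exact congrArg W.ι (hmax ⟨y, hyW⟩ hyO (W.ι.isOpenEmbedding.isInducing.specializes_iff.1 hy))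
  obtain ⟨_, ⟨A : X.Opens, hA, rfl⟩, hxA, hAW⟩ := X.isBasis_affineOpens.exists_subset_of_mem_open hxW W.2
  haveI : IsNoetherianRing Γ(X, A) := IsLocallyNoetherian.component_noetherian ⟨A, hA⟩
  letI := TopCat.Presheaf.algebra_section_stalk X.presheaf (⟨x, hxA⟩ : A)
  haveI := hA.isLocalization_stalk ⟨x, hxA⟩
  haveI : IsNoetherianRing (X.presheaf.stalk x) :=
    IsLocalization.isNoetherianRing (hA.primeIdealOf ⟨x, hxA⟩).asIdeal.primeCompl _ inferInstance
  obtain ⟨f₀, hf₀, g₀, hg₀, hfreg, hgreg⟩ :=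
    exists_pair_of_two_le_depth (hU x hxW fun h => hxO (hUO₀ h))
  obtain ⟨F, hxF, f₁, rfl⟩ := X.presheaf.exists_germ_eq f₀
  obtain ⟨G, hxG, g₁, rfl⟩ := X.presheaf.exists_germ_eq g₀
  obtain ⟨_, ⟨B : X.Opens, hB, rfl⟩, hxB, hBsub⟩ := X.isBasis_affineOpens.exists_subset_of_mem_open
    (show x ∈ (A ⊓ F ⊓ G : X.Opens) from ⟨⟨hxA, hxF⟩, hxG⟩) (A ⊓ F ⊓ G).2
  have hBA : B ≤ A := fun z hz => (hBsub hz).1.1
  haveI : IsNoetherianRing Γ(X, B) := IsLocallyNoetherian.component_noetherian ⟨B, hB⟩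
  haveI : TopologicalSpace.NoetherianSpace B := noetherianSpace_of_isAffineOpen B hB
  let f := res (fun z hz => (hBsub hz).1.2 : B ≤ F) f₁
  let g := res (fun z hz => (hBsub hz).2 : B ≤ G) g₁
  have hgf : X.presheaf.germ B x hxB f = X.presheaf.germ F x hxF f₁ := germ_res' _ x hxB f₁
  have hgg : X.presheaf.germ B x hxB g = X.presheaf.germ G x hxG g₁ := germ_res' _ x hxB g₁
  -- near x the complement of O₀ lies in the zero loci of f and g
  have hsep : ∀ e : Γ(X, B), X.presheaf.germ B x hxB e ∈ maximalIdeal (X.presheaf.stalk x) →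
      x ∉ closure ((X.basicOpen e : Set X) \ O₀) := fun e he hcl => by
    have hxe : x ∉ X.basicOpen e := fun hm => he ((X.mem_basicOpen e x hxB).1 hm)
    have h' : (⟨x, hxB⟩ : B.toScheme) ∈
        closure ((B.ι ⁻¹' (O₀ : Set X))ᶜ ∩ B.ι ⁻¹' (X.basicOpen e : Set X)) := by
      rw [Set.inter_comm, ← Set.diff_eq, ← Set.preimage_sdiff,
        ← B.ι.isOpenEmbedding.isOpenMap.preimage_closure_eq_closure_preimage B.ι.continuous]
      exact hcl
    obtain ⟨w, ⟨hwO, hwe⟩, hw⟩ := RatNormal.exists_specializes_of_mem_closure (α := B.toScheme) _ _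
      ((O₀.2.preimage B.ι.continuous).isClosed_compl) ((X.basicOpen e).2.preimage B.ι.continuous) h'
    have : B.ι w = x := hxmax _ (hAW (hBA w.2)) hwO (hw.map B.ι.continuous)
    exact hxe (this ▸ hwe)
  let Df := closure ((X.basicOpen f : Set X) \ O₀)
  let Dg := closure ((X.basicOpen g : Set X) \ O₀)
  have hf' : X.presheaf.germ B x hxB f ∈ nonZeroDivisors (X.presheaf.stalk x) := hgf ▸ hfreg
  obtain ⟨N, hNB, hxN, hNreg⟩ := exists_nhd_regular hB f x hxB hf'
  obtain ⟨_, ⟨C : X.Opens, hC, rfl⟩, hxC, hCsub⟩ := X.isBasis_affineOpens.exists_subset_of_mem_open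
    (show x ∈ (N : Set X) ∩ Dfᶜ ∩ Dgᶜ from ⟨⟨hxN, hsep f (hgf ▸ hf₀)⟩, hsep g (hgg ▸ hg₀)⟩)
    ((N.2.inter isClosed_closure.isOpen_compl).inter isClosed_closure.isOpen_compl)
  have hCB : C ≤ B := fun z hz => hNB (hCsub hz).1.1
  obtain ⟨fC, hfCdef⟩ : ∃ e, e = res hCB f := ⟨_, rfl⟩
  obtain ⟨gC, hgCdef⟩ : ∃ e, e = res hCB g := ⟨_, rfl⟩
  have hfO : X.basicOpen fC ≤ O₀ := fun z hz => by
    by_contra hne
    rw [hfCdef, Scheme.basicOpen_res] at hz
    exact (hCsub hz.1).1.2 (subset_closure ⟨hz.2, hne⟩)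
  have hgO : X.basicOpen gC ≤ O₀ := fun z hz => by
    by_contra hne
    rw [hgCdef, Scheme.basicOpen_res] at hz
    exact (hCsub hz.1).2 (subset_closure ⟨hz.2, hne⟩)
  obtain ⟨m, a, ha⟩ := exists_eq_pow_mul_of_isCompact_of_isQuasiSeparated X C hC.isCompact
    hC.isQuasiSeparated fC (res hfO t₀)
  obtain ⟨m', b, hb⟩ := exists_eq_pow_mul_of_isCompact_of_isQuasiSeparated X C hC.isCompact
    hC.isQuasiSeparated gC (res hgO t₀)
  replace ha : res (X.basicOpen_le fC) a = res (X.basicOpen_le fC) fC ^ m * res hfO t₀ := ha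
  replace hb : res (X.basicOpen_le gC) b = res (X.basicOpen_le gC) gC ^ m' * res hgO t₀ := hb
  obtain ⟨k, hk⟩ := exists_pow_mul_eq_zero_of_res_basicOpen_eq_zero_of_isCompact X hC.isCompact
    (a * gC ^ m' - b * fC ^ m) (fC * gC) (by
      have hl : X.basicOpen (fC * gC) ≤ X.basicOpen fC := by rw [X.basicOpen_mul]; exact inf_le_left
      have hr : X.basicOpen (fC * gC) ≤ X.basicOpen gC := by rw [X.basicOpen_mul]; exact inf_le_right
      show res (X.basicOpen_le (fC * gC)) _ = 0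
      have h1 := congrArg (res hl) ha
      have h2 := congrArg (res hr) hb
      rw [map_mul, map_pow, res_res, res_res, res_res] at h1 h2
      rw [map_sub, map_mul, map_mul, map_pow, map_pow, h1, h2]
      ring)
  -- extract the quotient at x
  let φ := (X.presheaf.germ C x hxC).hom
  have hφf : φ fC = X.presheaf.germ F x hxF f₁ := by rw [← hgf, hfCdef]; exact germ_res' hCB x hxC f
  have hφg : φ gC = X.presheaf.germ G x hxG g₁ := by rw [← hgg, hgCdef]; exact germ_res' hCB x hxC g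
  have h1 : φ gC ^ (k + m') * φ a ∈ Ideal.span {φ fC ^ m} := by
    have h2 := congrArg φ hk
    rw [map_zero, map_mul, map_pow, map_mul, mul_pow, map_sub, map_mul, map_mul, map_pow, map_pow,
      mul_assoc] at h2
    have h3 := (mul_right_mem_nonZeroDivisors_eq_zero_iff
      (pow_mem (hφf ▸ hfreg : φ fC ∈ nonZeroDivisors _) k)).1 (by rw [mul_comm] at h2; exact h2)
    refine Ideal.mem_span_singleton'.2 ⟨φ gC ^ k * φ b, ?_⟩
    rw [pow_add]
    linear_combination -h3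
  obtain ⟨c₀, hc₀⟩ := Ideal.mem_span_singleton'.1 (mem_span_pow (hφf ▸ hfreg)
    (hφg ▸ hφf ▸ hgreg) (k + m') m _ h1)
  obtain ⟨E, hxE, c₁, rfl⟩ := X.presheaf.exists_germ_eq c₀
  obtain ⟨P, hxP, i₁, i₂, heq⟩ := X.presheaf.germ_eq (U := C ⊓ E) (V := C) x ⟨hxC, hxE⟩ hxC
    (res (inf_le_right : C ⊓ E ≤ E) c₁ * res (inf_le_left : C ⊓ E ≤ C) (fC ^ m)) a (by
      rw [map_mul, germ_res', germ_res', map_pow]
      exact hc₀)
  have hPC : P ≤ C := i₂.le
  have hPE : P ≤ E := i₁.le.trans inf_le_right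
  replace heq : res hPE c₁ * res hPC fC ^ m = res hPC a := by
    have e : res i₁.le (res (inf_le_right : C ⊓ E ≤ E) c₁ * res (inf_le_left : C ⊓ E ≤ C) (fC ^ m)) =
      res hPC a := heq
    rwa [map_mul, res_res, res_res, map_pow] at e
  -- glue
  have hPW : P ≤ W := hPC.trans (hCB.trans (hBA.trans hAW))
  have hagree : res (inf_le_right : P ⊓ O₀ ≤ O₀) t₀ = res (inf_le_left : P ⊓ O₀ ≤ P) (res hPE c₁) := by
    rw [← sub_eq_zero]
    refine eq_zero_of_res_basicOpen (W := B) (inf_le_left.trans (hPC.trans hCB)) f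
      (fun y hy => hNreg y (hCsub (hPC hy.1)).1.1) _ ?_
    have hl : P ⊓ O₀ ⊓ X.basicOpen f ≤ X.basicOpen fC := by
      rw [show X.basicOpen fC = C ⊓ X.basicOpen f by rw [hfCdef]; exact Scheme.basicOpen_res _ _ _]
      exact fun z hz => ⟨hPC hz.1.1, hz.2⟩
    have hu : IsUnit (res (hl.trans (X.basicOpen_le fC)) fC) := by
      rw [← res_res (X.basicOpen_le fC) hl]
      exact (RingedSpace.isUnit_res_basicOpen _ fC).map _
    rw [map_sub, res_res, res_res, res_res, sub_eq_zero]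
    refine (hu.pow m).mul_left_cancel ?_
    have h3 := congrArg (res hl) ha
    rw [map_mul, map_pow, res_res, res_res, res_res] at h3
    have h4 := congrArg (res (inf_le_left.trans inf_le_left : P ⊓ O₀ ⊓ X.basicOpen f ≤ P)) heq
    rw [map_mul, map_pow, res_res, res_res, res_res] at h4
    rw [← h3, ← h4, mul_comm]
  obtain ⟨u, hu, -⟩ := X.sheaf.existsUnique_gluing' (fun i : Bool => bif i then O₀ else P) (O₀ ⊔ P)
    (fun i => homOfLE (by cases i <;> simp)) (sup_le (le_iSup (fun i : Bool => bif i then O₀ else P) true)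
      (le_iSup (fun i : Bool => bif i then O₀ else P) false))
    (fun i => match i with | true => t₀ | false => res hPE c₁) (by
      intro i j
      match i, j with
      | true, true => rfl
      | false, false => rfl
      | true, false =>
        show res (inf_le_left : O₀ ⊓ P ≤ O₀) t₀ = res (inf_le_right : O₀ ⊓ P ≤ P) (res hPE c₁)
        rw [← res_res (inf_le_right : P ⊓ O₀ ≤ O₀) (inf_comm O₀ P).le, hagree, res_res]
      | false, true =>
        exact hagree.symm)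
  have hu' : res (le_sup_left : O₀ ≤ O₀ ⊔ P) u = t₀ := hu true
  refine hxO (le_iSup (fun i : ι => i.1.1) ⟨⟨O₀ ⊔ P, u⟩, hUO₀.trans le_sup_left, sup_le hO₀W hPW, ?_⟩
    (show x ∈ O₀ ⊔ P from Or.inr hxP))
  rw [← res_res (le_sup_left : O₀ ≤ O₀ ⊔ P) hUO₀, hu', hs]

/-- Morphisms to an affine scheme extend across depth two. -/
theorem existsUnique_extension [IsLocallyNoetherian X] {U W : X.Opens} (hUW : U ≤ W)
    (hU : ∀ x ∈ W, x ∉ U → (2 : ℕ∞) ≤ LocCoh.depth (X.presheaf.stalk x) (X.presheaf.stalk x))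
    {Y : Scheme.{u}} [IsAffine Y] (f : (U : Scheme.{u}) ⟶ Y) :
    ∃! g : (W : Scheme.{u}) ⟶ Y, X.homOfLE hUW ≫ g = f := by
  have hinj : ∀ a : Γ(X, W), res hUW a = 0 → a = 0 := fun a ha =>
    dense_of_depth_pos (fun x hx hxU => le_trans (by norm_num) (hU x hx hxU)) a
      (res_eq_zero_mono hUW inf_le_right ha)
  let r : Γ(X, W) ≃+* Γ(X, U) := RingEquiv.ofBijective (res hUW).hom
    ⟨(injective_iff_map_eq_zero _).2 hinj, fun s => exists_extend_section hUW hU s⟩
  let e : Γ(X, W) ≅ Γ(X, U) := r.toCommRingCatIso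
  have key : X.homOfLE hUW ≫ W.toSpecΓ = U.toSpecΓ ≫ Spec.map e.hom :=
    (Scheme.Opens.toSpecΓ_SpecMap_presheaf_map _ _ _).symm
  let φ := f.appTop ≫ U.topIso.hom
  have hf : f ≫ Y.toSpecΓ = U.toSpecΓ ≫ Spec.map φ := by
    rw [Scheme.toSpecΓ_naturality, Scheme.Opens.toSpecΓ, Category.assoc, ← Spec.map_comp,
      Category.assoc, Iso.hom_inv_id, Category.comp_id]
  have inv_key : ∀ g : (W : Scheme.{u}) ⟶ Y, X.homOfLE hUW ≫ g = f →
      g = W.toSpecΓ ≫ Spec.map (φ ≫ e.inv) ≫ inv Y.toSpecΓ := by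
    intro g hg
    have hg1 : g ≫ Y.toSpecΓ = W.toSpecΓ ≫ Spec.map (g.appTop ≫ W.topIso.hom) := by
      rw [Scheme.toSpecΓ_naturality, Scheme.Opens.toSpecΓ, Category.assoc, ← Spec.map_comp,
        Category.assoc, Iso.hom_inv_id, Category.comp_id]
    have h2 : φ = (g.appTop ≫ W.topIso.hom) ≫ e.hom := by
      have h3 : (f ≫ Y.toSpecΓ).appTop = ((X.homOfLE hUW ≫ g) ≫ Y.toSpecΓ).appTop := by rw [hg]
      rw [Category.assoc, hg1, hf, ← Category.assoc, key, Category.assoc, ← Spec.map_comp] at h3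
      have h4 : U.toSpecΓ.appTop = (Scheme.ΓSpecIso Γ(X, U)).hom ≫ U.topIso.inv := by
        simp [Scheme.Opens.toSpecΓ]
      rw [Scheme.Hom.comp_appTop, Scheme.Hom.comp_appTop, h4, Scheme.ΓSpecIso_naturality_assoc,
        Scheme.ΓSpecIso_naturality_assoc, cancel_epi, cancel_mono] at h3
      exact h3
    have h6 : φ ≫ e.inv = g.appTop ≫ W.topIso.hom := by rw [h2, Category.assoc, e.hom_inv_id, Category.comp_id]
    rw [← Category.assoc, h6, ← hg1, Category.assoc, IsIso.hom_inv_id, Category.comp_id]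
  refine ⟨W.toSpecΓ ≫ Spec.map (φ ≫ e.inv) ≫ inv Y.toSpecΓ, ?_, inv_key⟩
  show X.homOfLE hUW ≫ _ = f
  rw [reassoc_of% key, ← Spec.map_comp_assoc, Category.assoc, e.inv_hom_id, Category.comp_id,
    ← reassoc_of% hf, IsIso.hom_inv_id, Category.comp_id]

end Groth.Agent.RatDense
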