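import Groth.Agent.RatDense.Basic
/-!
Schematically dense opens pull back along étale morphisms, with no quasi-compactness hypothesis.
-/

set_option autoImplicit false
set_option backward.isDefEq.respectTransparency false
set_option backward.isDefEq.respectTransparency.types false

universe u

open CategoryTheory AlgebraicGeometry Polynomial

namespace Groth.Agent.RatDense

variable {A : Type u} [CommRing A]

/-- Density of the family of multiplications passes to finite free modules. -/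
theorem exists_pow_smul_eq_zero_free {M : Type u} [AddCommGroup M] [Module A M] [Module.Free A M] [Module.Finite A M]
    (S : Set A) (dens : ∀ c x : A, (∀ a ∈ S, ∃ N : ℕ, (c * a) ^ N * x = 0) → ∃ m : ℕ, c ^ m * x = 0)
    (c : A) (z : M) (h : ∀ a ∈ S, ∃ N : ℕ, (c * a) ^ N • z = 0) : ∃ m : ℕ, c ^ m • z = 0 := by
  classical
  let b := Module.Free.chooseBasis A M
  have h1 : ∀ i, ∃ m : ℕ, c ^ m * b.repr z i = 0 := fun i => dens c _ fun a ha => by
    obtain ⟨N, hN⟩ := h a ha
    exact ⟨N, by simpa using congrArg (fun w => b.repr w i) hN⟩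
  choose m hm using h1
  refine ⟨Finset.univ.sup m, b.ext_elem fun i => ?_⟩
  rw [map_smul, map_zero, Finsupp.smul_apply, Finsupp.zero_apply, smul_eq_mul]
  obtain ⟨d, hd⟩ := Nat.exists_eq_add_of_le (Finset.le_sup (f := m) (Finset.mem_univ i))
  rw [hd, pow_add, mul_right_comm, hm i, zero_mul]

/-- In a finite free algebra, a section killed on a dense family away from `Q` is killed by a power of `Q`. -/
theorem exists_pow_mul_eq_zero_free {C : Type u} [CommRing C] [Algebra A C] [Module.Free A C] [Module.Finite A C]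
    (S : Set A) (dens : ∀ c x : A, (∀ a ∈ S, ∃ N : ℕ, (c * a) ^ N * x = 0) → ∃ m : ℕ, c ^ m * x = 0)
    (Q y : C) (h : ∀ a ∈ S, ∃ N : ℕ, (algebraMap A C a * Q) ^ N * y = 0) : ∃ K : ℕ, Q ^ K * y = 0 := by
  obtain ⟨P, hmonic, hP⟩ := Algebra.IsIntegral.isIntegral (R := A) Q
  suffices key : ∀ k, k ≤ P.natDegree + 1 →
      ∃ K : ℕ, ∀ i < k, ∃ m : ℕ, algebraMap A C (P.coeff i) ^ m * (Q ^ K * y) = 0 by
    obtain ⟨K, hK⟩ := key _ le_rfl
    obtain ⟨m, hm⟩ := hK P.natDegree (Nat.lt_succ_self _)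
    rw [hmonic.coeff_natDegree, map_one, one_pow, one_mul] at hm
    exact ⟨K, hm⟩
  intro k
  induction k with
  | zero => exact fun _ => ⟨0, fun i hi => absurd hi (Nat.not_lt_zero i)⟩
  | succ k ih =>
    intro hk
    obtain ⟨K, hK⟩ := ih (by omega)
    let z₀ := Q ^ K * y
    let c : ℕ → C := fun i => algebraMap A C (P.coeff i)
    let I : Ideal C := LinearMap.ker (LinearMap.mulRight C z₀)
    have hI : ∀ x : C, x ∈ I ↔ x * z₀ = 0 := fun x => Iff.rfl
    let r : ℕ := P.natDegree - k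
    let R : C := ∑ i ∈ Finset.range (r + 1), c (k + i) * Q ^ i
    have hsum : ∑ i ∈ Finset.range k, c i * Q ^ i + Q ^ k * R = 0 := by
      rw [← aeval_def, aeval_eq_sum_range, show P.natDegree + 1 = k + (r + 1) by omega,
        Finset.sum_range_add] at hP
      simp only [Algebra.smul_def] at hP
      rw [Finset.mul_sum]
      convert hP using 2
      exact Finset.sum_congr rfl fun i _ => by rw [pow_add]; ring
    have hrad : Q ^ k * R ∈ I.radical := by
      rw [show Q ^ k * R = -∑ i ∈ Finset.range k, c i * Q ^ i by linear_combination hsum]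
      refine neg_mem (sum_mem fun i hi => I.radical.mul_mem_right _ ?_)
      obtain ⟨m, hm⟩ := hK i (Finset.mem_range.1 hi)
      exact ⟨m, (hI _).2 hm⟩
    obtain ⟨n, hn⟩ := hrad
    let z := Q ^ (k * n) * z₀
    have hz : R ^ n * z = 0 := by
      have := (hI _).1 hn
      rw [mul_pow, ← pow_mul] at this
      linear_combination this
    have hR : R = c k + Q * ∑ i ∈ Finset.range r, c (k + (i + 1)) * Q ^ i := by
      rw [show R = ∑ i ∈ Finset.range (r + 1), c (k + i) * Q ^ i from rfl, Finset.sum_range_succ',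
        add_comm, Finset.mul_sum, pow_zero, mul_one, add_zero]
      congr 1
      exact Finset.sum_congr rfl fun i _ => by rw [pow_succ]; ring
    obtain ⟨u, hu⟩ : Q ∣ R ^ n - c k ^ n := by
      refine dvd_trans ?_ (sub_dvd_pow_sub_pow R (c k) n)
      exact ⟨∑ i ∈ Finset.range r, c (k + (i + 1)) * Q ^ i, by rw [hR]; ring⟩
    have hck : c k ^ n * z = Q * (-u) * z := by linear_combination hz - z * hu
    have hpow : ∀ N : ℕ, c k ^ (n * N) * z = Q ^ N * (-u) ^ N * z := fun N => by
      induction N with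
      | zero => simp
      | succ N ihN => linear_combination c k ^ n * ihN + Q ^ N * (-u) ^ N * hck
    obtain ⟨m, hm⟩ := exists_pow_smul_eq_zero_free (M := C) S dens (P.coeff k ^ n) z fun a ha => by
      obtain ⟨N, hN⟩ := h a ha
      refine ⟨N, ?_⟩
      rw [Algebra.smul_def, map_pow, map_mul, map_pow, mul_pow, ← pow_mul, mul_comm (c k ^ (n * N)), mul_assoc,
        hpow N]
      rw [mul_pow] at hN
      show algebraMap A C a ^ N * (Q ^ N * (-u) ^ N * (Q ^ (k * n) * (Q ^ K * y))) = 0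
      linear_combination (-u) ^ N * Q ^ (k * n) * Q ^ K * hN
    refine ⟨k * n + K, fun i hi => ?_⟩
    rcases Nat.lt_succ_iff_lt_or_eq.1 hi with hi | rfl
    · obtain ⟨m', hm'⟩ := hK i hi
      exact ⟨m', by rw [pow_add]; linear_combination Q ^ (k * n) * hm'⟩
    · refine ⟨n * m, ?_⟩
      rw [Algebra.smul_def, map_pow, map_pow, ← pow_mul] at hm
      rw [pow_add]
      linear_combination hm

/-- Density of a family of basic opens passes to standard étale algebras. -/
theorem eq_zero_of_standardEtale {B : Type u} [CommRing B] [Algebra A B] [Algebra.IsStandardEtale A B]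
    (S : Set A) (dens : ∀ c x : A, (∀ a ∈ S, ∃ N : ℕ, (c * a) ^ N * x = 0) → ∃ m : ℕ, c ^ m * x = 0)
    (σ : B) (h : ∀ a ∈ S, ∃ N : ℕ, a ^ N • σ = 0) : σ = 0 := by
  obtain ⟨P⟩ := Algebra.IsStandardEtale.nonempty_standardEtalePresentation (R := A) (S := B)
  let g := AdjoinRoot.mk P.f P.g
  let L := Localization.Away g
  let e : B ≃ₐ[A] L := P.equivRing.trans P.P.equivAwayAdjoinRoot
  haveI : Module.Free A (AdjoinRoot P.f) := P.monic_f.free_adjoinRoot
  haveI : Module.Finite A (AdjoinRoot P.f) := P.monic_f.finite_adjoinRoot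
  obtain ⟨n, y, hy⟩ := IsLocalization.Away.surj g (e σ)
  obtain ⟨K, hK⟩ := exists_pow_mul_eq_zero_free S dens g y fun a ha => by
    obtain ⟨N, hN⟩ := h a ha
    have h1 : algebraMap (AdjoinRoot P.f) L (algebraMap A (AdjoinRoot P.f) a ^ N * y) = 0 := by
      rw [map_mul, ← hy, map_pow, ← IsScalarTower.algebraMap_apply, ← mul_assoc, ← map_pow, ← Algebra.smul_def,
        ← map_smul, hN, map_zero, zero_mul]
    obtain ⟨⟨_, L', rfl⟩, hL⟩ := (IsLocalization.map_eq_zero_iff (Submonoid.powers g) L _).1 h1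
    refine ⟨N + L', ?_⟩
    linear_combination algebraMap A (AdjoinRoot P.f) a ^ L' * g ^ N * hL
  have h1 : algebraMap (AdjoinRoot P.f) L y = 0 :=
    (IsLocalization.map_eq_zero_iff (Submonoid.powers g) L _).2 ⟨⟨g ^ K, K, rfl⟩, hK⟩
  have h2 : e σ = 0 := ((IsLocalization.Away.algebraMap_isUnit g).pow n).mul_left_eq_zero.1 (hy.trans h1)
  exact e.injective (h2.trans (map_zero e).symm)

variable {X X' : Scheme.{u}}

/-- Schematically dense opens pull back along étale morphisms. -/
theorem preimage_of_etale (f : X' ⟶ X) [Etale f] {V : X.Opens} (hV : CInt.IsSchematicallyDense V) :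
    CInt.IsSchematicallyDense (f ⁻¹ᵁ V) := by
  refine of_forall_affine fun y O hy => ?_
  obtain ⟨_, ⟨W : X.Opens, hW, rfl⟩, hyW, -⟩ :=
    X.isBasis_affineOpens.exists_subset_of_mem_open (Set.mem_univ (f y)) isOpen_univ
  obtain ⟨_, ⟨W' : X'.Opens, hW', rfl⟩, hyW', hW'O⟩ :=
    X'.isBasis_affineOpens.exists_subset_of_mem_open (show y ∈ O ⊓ f ⁻¹ᵁ W from ⟨hy, hyW⟩)
      (O ⊓ f ⁻¹ᵁ W).2
  have e : W' ≤ f ⁻¹ᵁ W := fun z hz => (hW'O hz).2
  letI := (f.appLE W W' e).hom.toAlgebra
  haveI : Algebra.Etale Γ(X, W) Γ(X', W') := f.etale_appLE hW hW' e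
  obtain ⟨g, hg, hst⟩ := Algebra.IsEtaleAt.exists_isStandardEtale (R := Γ(X, W)) (hW'.primeIdealOf ⟨y, hyW'⟩).asIdeal
  let W'' := X'.basicOpen g
  have hyg : y ∈ W'' := by
    have h1 : hW'.primeIdealOf ⟨y, hyW'⟩ ∈ PrimeSpectrum.basicOpen g := hg
    rwa [← hW'.fromSpec_preimage_basicOpen, Scheme.Hom.mem_preimage, hW'.fromSpec_primeIdealOf] at h1
  have hW'' : IsAffineOpen W'' := hW'.basicOpen g
  have e'' : W'' ≤ f ⁻¹ᵁ W := (X'.basicOpen_le g).trans e
  refine ⟨W'', hyg, fun z hz => (hW'O (X'.basicOpen_le g hz)).1, fun σ hσ => ?_⟩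
  letI : Algebra Γ(X, W) Γ(X', W'') := (f.appLE W W'' e'').hom.toAlgebra
  haveI : IsScalarTower Γ(X, W) Γ(X', W') Γ(X', W'') := .of_algebraMap_eq fun x => by
    show f.appLE W W'' e'' x = X'.presheaf.map (homOfLE (X'.basicOpen_le g)).op (f.appLE W W' e x)
    rw [← CommRingCat.comp_apply, Scheme.Hom.appLE_map]
  haveI := hW'.isLocalization_basicOpen g
  haveI : Algebra.IsStandardEtale Γ(X, W) Γ(X', W'') :=
    .of_equiv ((IsLocalization.algEquiv (Submonoid.powers g) (Localization.Away g) Γ(X', W'')).restrictScalars Γ(X, W))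
  refine eq_zero_of_standardEtale {a : Γ(X, W) | X.basicOpen a ≤ V} (fun c x hx => ?_) σ fun a ha => ?_
  · refine exists_pow_mul_eq_zero_of_res_basicOpen_eq_zero_of_isCompact X hW.isCompact x c ?_
    refine eq_zero_of_res hV _ (eq_zero_of_germ _ fun z hz => ?_)
    obtain ⟨a, ha, hza⟩ := hW.exists_basicOpen_le (V := V) ⟨z, hz.2⟩ (X.basicOpen_le c hz.1)
    obtain ⟨N, hN⟩ := hx a ha
    have h1 := congrArg (X.presheaf.germ W z (X.basicOpen_le c hz.1)) hN
    rw [map_zero, map_mul, map_pow, map_mul] at h1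
    have hu : IsUnit (X.presheaf.germ W z (X.basicOpen_le c hz.1) c * X.presheaf.germ W z (X.basicOpen_le c hz.1) a) :=
      ((X.mem_basicOpen c z _).1 hz.1).mul ((X.mem_basicOpen a z _).1 hza)
    exact (TopCat.Presheaf.germ_res_apply _ _ _ _ _).trans
      ((TopCat.Presheaf.germ_res_apply _ _ _ _ _).trans ((hu.pow N).mul_right_eq_zero.1 h1))
  · have hle : X'.basicOpen (f.appLE W W'' e'' a) ≤ W'' ⊓ f ⁻¹ᵁ V := by
      rw [Scheme.Hom.appLE, CommRingCat.comp_apply, Scheme.basicOpen_res, ← Scheme.preimage_basicOpen]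
      exact inf_le_inf_left _ (f.preimage_mono ha)
    obtain ⟨N, hN⟩ := exists_pow_mul_eq_zero_of_res_basicOpen_eq_zero_of_isCompact X' hW''.isCompact σ
      (f.appLE W W'' e'' a) (res_eq_zero_mono _ hle hσ)
    refine ⟨N, ?_⟩
    rw [Algebra.smul_def, map_pow]
    exact hN

end Groth.Agent.RatDense
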