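import Groth.Agent.RatDense.Basic
import Groth.Agent.RatMapLib.Unique
import Groth.Agent.RatNormal.SectionExt
import Mathlib

/-!
Pseudo-morphisms defined on the spectrum of a local ring are defined near the point.
-/

set_option autoImplicit false

open CategoryTheory CategoryTheory.Limits AlgebraicGeometry TopologicalSpace Opposite

universe u

set_option backward.isDefEq.respectTransparency false
set_option backward.defeqAttrib.useBackward true

namespace Groth.Agent.RatDense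

variable {X : Scheme.{u}}

/-- A point near which all components pass through it. -/
theorem exists_nhd_components (x : X) (hfin : ∃ W : X.Opens, x ∈ W ∧
    {Z : Set ↥X | Z ∈ irreducibleComponents ↥X ∧ (Z ∩ (W : Set ↥X)).Nonempty}.Finite) :
    ∃ N : X.Opens, x ∈ N ∧ ∀ y ∈ N, ∃ η : X, η ⤳ y ∧ η ⤳ x ∧ ∀ G : X.Opens, y ∈ G → η ∈ G := by
  obtain ⟨W, hxW, hW⟩ := hfin
  let S := {C ∈ irreducibleComponents ↥X | (C ∩ (W : Set ↥X)).Nonempty ∧ x ∉ C}
  have hS : S.Finite := hW.subset fun C hC => ⟨hC.1, hC.2.1⟩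
  have hcl : IsClosed (⋃₀ S) := by
    rw [Set.sUnion_eq_biUnion]
    exact hS.isClosed_biUnion fun C hC => isClosed_of_mem_irreducibleComponents C hC.1
  refine ⟨W ⊓ ⟨(⋃₀ S)ᶜ, hcl.isOpen_compl⟩, ⟨hxW, by rintro ⟨C, hC, hm⟩; exact hC.2.2 hm⟩, fun y hy => ?_⟩
  have hyC : y ∈ irreducibleComponent y := mem_irreducibleComponent
  have hCc := irreducibleComponent_mem_irreducibleComponents y
  have hxC : x ∈ irreducibleComponent y := by
    by_contra hne
    exact hy.2 ⟨_, ⟨hCc, ⟨y, hyC, hy.1⟩, hne⟩, hyC⟩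
  obtain ⟨η, hη⟩ := QuasiSober.sober hCc.1 (isClosed_of_mem_irreducibleComponents _ hCc)
  exact ⟨η, hη.specializes hyC, hη.specializes hxC, fun G hyG => (hη.specializes hyC).mem_open G.2 hyG⟩

theorem isGermInjectiveAt_of_components [IsReduced X] (x : X) (hfin : ∃ W : X.Opens, x ∈ W ∧
    {Z : Set ↥X | Z ∈ irreducibleComponents ↥X ∧ (Z ∩ (W : Set ↥X)).Nonempty}.Finite) :
    X.IsGermInjectiveAt x := by
  obtain ⟨N, hxN, hN⟩ := exists_nhd_components x hfin
  obtain ⟨_, ⟨W : X.Opens, hW, rfl⟩, hxW, hWN⟩ := X.isBasis_affineOpens.exists_subset_of_mem_open hxN N.2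
  refine ⟨⟨W, hxW, hW, (injective_iff_map_eq_zero _).2 fun s hs => eq_zero_of_basicOpen_eq_bot s ?_⟩⟩
  refine eq_bot_iff.2 fun y hy => ?_
  obtain ⟨η, -, hηx, hmem⟩ := hN y (hWN (X.basicOpen_le s hy))
  have hηW : η ∈ W := hηx.mem_open W.2 hxW
  have h1 : X.presheaf.germ W η hηW s = 0 := by
    rw [← TopCat.Presheaf.germ_stalkSpecializes X.presheaf hxW hηx, CommRingCat.comp_apply, hs, map_zero]
  have h2 := (X.mem_basicOpen s η hηW).1 (hmem _ hy)
  rw [h1] at h2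
  exact not_isUnit_zero h2

theorem exists_agree_opens {Y S : Scheme.{u}} (pY : Y ⟶ S) [LocallyOfFiniteType pY] {M : X.Opens}
    (x : X) (a b : (M : Scheme.{u}) ⟶ Y) (hab : a ≫ pY = b ≫ pY)
    (h : ∀ p : (M : Scheme.{u}), M.ι p ⤳ x →
      M.toScheme.fromSpecStalk p ≫ a = M.toScheme.fromSpecStalk p ≫ b) :
    ∃ O : M.toScheme.Opens, (∀ p, M.ι p ⤳ x → p ∈ O) ∧ O.ι ≫ a = O.ι ≫ b := by
  choose Op hp he using fun p : {p : (M : Scheme.{u}) // M.ι p ⤳ x} =>
    RatMapLib.exists_opens_eq_of_fromSpecStalk pY a b hab (h p.1 p.2)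
  refine ⟨⨆ p, Op p, fun p hpx => TopologicalSpace.Opens.mem_iSup.2 ⟨⟨p, hpx⟩, hp _⟩, ?_⟩
  refine (Scheme.Opens.iSupOpenCover Op).hom_ext _ _ fun p => ?_
  show M.toScheme.homOfLE (le_iSup Op p) ≫ _ = M.toScheme.homOfLE (le_iSup Op p) ≫ _
  rw [← Category.assoc, ← Category.assoc, Scheme.homOfLE_ι, he]

theorem extends_of_extends_stalk {Y S : Scheme.{u}} (pX : X ⟶ S) (pY : Y ⟶ S)
    [IsSeparated pY] [LocallyOfFinitePresentation pY]
    (hX : IsLocallyNoetherian X ∨ (IsReduced X ∧ ∀ x : ↥X, ∃ W : X.Opens, x ∈ W ∧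
      {Z : Set ↥X | Z ∈ irreducibleComponents ↥X ∧ (Z ∩ (W : Set ↥X)).Nonempty}.Finite))
    (U : X.Opens) (h : (U : Scheme.{u}) ⟶ Y) (hh : h ≫ pY = U.ι ≫ pX)
    (x : ↥X) (w : Spec (X.presheaf.stalk x) ⟶ Y) (hw : w ≫ pY = X.fromSpecStalk x ≫ pX)
    (he : pullback.fst (X.fromSpecStalk x) U.ι ≫ w = pullback.snd (X.fromSpecStalk x) U.ι ≫ h) :
    ∃ (V : X.Opens) (v : (V : Scheme.{u}) ⟶ Y), x ∈ V ∧ v ≫ pY = V.ι ≫ pX ∧
      X.homOfLE (inf_le_right : U ⊓ V ≤ V) ≫ v = X.homOfLE (inf_le_left : U ⊓ V ≤ U) ≫ h := by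
  haveI : X.IsGermInjectiveAt x := by
    rcases hX with hX | ⟨hX, hfin⟩
    · haveI := hX; infer_instance
    · haveI := hX; exact isGermInjectiveAt_of_components x (hfin x)
  obtain ⟨V, hxV, v, hwv, hv⟩ := spread_out_of_isGermInjective' pX pY w hw
  let M := U ⊓ V
  let a := X.homOfLE (inf_le_right : M ≤ V) ≫ v
  let b := X.homOfLE (inf_le_left : M ≤ U) ≫ h
  have hab : a ≫ pY = b ≫ pY := by
    simp only [a, b, Category.assoc, hv, hh, Scheme.homOfLE_ι_assoc]
  obtain ⟨O, hO, hOe⟩ := exists_agree_opens pY x a b hab fun p hpx => by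
    let j := Spec.map (inv (M.ι.stalkMap p)) ≫ M.toScheme.fromSpecStalk p
    suffices j ≫ a = j ≫ b by
      rw [← cancel_epi (Spec.map (inv (M.ι.stalkMap p)))]
      simpa only [j, Category.assoc] using this
    have hj : j ≫ M.ι = X.fromSpecStalk (M.ι p) := by
      simp only [j, Category.assoc, Spec.map_inv, ← Scheme.SpecMap_stalkMap_fromSpecStalk,
        IsIso.inv_hom_id_assoc]
    let k := Spec.map (X.presheaf.stalkSpecializes hpx)
    have hk : k ≫ X.fromSpecStalk x = X.fromSpecStalk (M.ι p) :=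
      Scheme.SpecMap_stalkSpecializes_fromSpecStalk _
    have e₁ : k ≫ V.fromSpecStalkOfMem x hxV = j ≫ X.homOfLE (inf_le_right : M ≤ V) := by
      rw [← cancel_mono V.ι, Category.assoc, Category.assoc, Scheme.homOfLE_ι,
        Scheme.Opens.fromSpecStalkOfMem_ι, hk, hj]
    let l := pullback.lift (f := X.fromSpecStalk x) (g := U.ι) k
      (j ≫ X.homOfLE (inf_le_left : M ≤ U)) (by rw [hk, Category.assoc, Scheme.homOfLE_ι, hj])
    have e₂ := congrArg (l ≫ ·) he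
    simp only [l, pullback.lift_fst_assoc, pullback.lift_snd_assoc, Category.assoc] at e₂
    show j ≫ _ ≫ v = j ≫ _ ≫ h
    rw [← Category.assoc, ← e₁, Category.assoc, ← hwv, e₂]
  rcases hX with hX | ⟨hX, hfin⟩
  · haveI := hX
    let D : Set X := (M : Set X) \ (M.ι ''ᵁ O : X.Opens)
    obtain ⟨_, ⟨A : X.Opens, hA, rfl⟩, hxA, -⟩ :=
      X.isBasis_affineOpens.exists_subset_of_mem_open (Set.mem_univ x) isOpen_univ
    haveI : IsNoetherianRing Γ(X, A) := IsLocallyNoetherian.component_noetherian ⟨A, hA⟩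
    haveI : TopologicalSpace.NoetherianSpace A := noetherianSpace_of_isAffineOpen A hA
    have hxD : x ∉ closure D := fun hxcl => by
      have hx' : (⟨x, hxA⟩ : A.toScheme) ∈
          closure ((A.ι ⁻¹' ((M.ι ''ᵁ O : X.Opens) : Set X))ᶜ ∩ A.ι ⁻¹' (M : Set X)) := by
        rw [Set.inter_comm, ← Set.diff_eq, ← Set.preimage_sdiff,
          ← A.ι.isOpenEmbedding.isOpenMap.preimage_closure_eq_closure_preimage A.ι.continuous]
        exact hxcl
      obtain ⟨w', ⟨hwO, hwM⟩, hw'⟩ := RatNormal.exists_specializes_of_mem_closure (α := A.toScheme) _ _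
        (((M.ι ''ᵁ O).2.preimage A.ι.continuous).isClosed_compl) (M.2.preimage A.ι.continuous) hx'
      exact hwO ⟨⟨A.ι w', hwM⟩, hO _ (hw'.map A.ι.continuous), rfl⟩
    let V₂ : X.Opens := V ⊓ ⟨(closure D)ᶜ, isClosed_closure.isOpen_compl⟩
    refine ⟨V₂, X.homOfLE inf_le_left ≫ v, ⟨hxV, hxD⟩, ?_, ?_⟩
    · rw [Category.assoc, hv, Scheme.homOfLE_ι_assoc]
    · have hle : U ⊓ V₂ ≤ M := inf_le_inf_left U inf_le_left
      have hrng : Set.range (X.homOfLE hle) ⊆ Set.range O.ι := by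
        rintro _ ⟨q, rfl⟩
        rw [Scheme.Opens.range_ι]
        have hq : M.ι (X.homOfLE hle q) = (U ⊓ V₂).ι q := by
          rw [← Scheme.Hom.comp_apply, Scheme.homOfLE_ι]
        by_contra hne
        refine q.2.2.2 (subset_closure ⟨hle q.2, ?_⟩)
        rintro ⟨q', hq', e⟩
        rw [show q' = X.homOfLE hle q from M.ι.isOpenEmbedding.injective (e.trans hq.symm)] at hq'
        exact hne hq'
      have hfac := IsOpenImmersion.lift_fac O.ι (X.homOfLE hle) hrng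
      calc X.homOfLE (inf_le_right : U ⊓ V₂ ≤ V₂) ≫ X.homOfLE inf_le_left ≫ v
          = X.homOfLE hle ≫ a := by simp [a, ← Category.assoc, M]
        _ = X.homOfLE hle ≫ b := by rw [← hfac, Category.assoc, hOe, Category.assoc]
        _ = _ := by simp [b, ← Category.assoc, M]
  · haveI := hX
    obtain ⟨N, hxN, hN⟩ := exists_nhd_components x (hfin x)
    let V₂ := V ⊓ N
    refine ⟨V₂, X.homOfLE inf_le_left ≫ v, ⟨hxV, hxN⟩, ?_, ?_⟩
    · rw [Category.assoc, hv, Scheme.homOfLE_ι_assoc]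
    · have hle : U ⊓ V₂ ≤ M := inf_le_inf_left U inf_le_left
      haveI : IsReduced (U ⊓ V₂).toScheme := isReduced_of_isOpenImmersion (U ⊓ V₂).ι
      have hd : Dense ((X.homOfLE hle ⁻¹ᵁ O : (U ⊓ V₂).toScheme.Opens) : Set (U ⊓ V₂).toScheme) := by
        refine dense_iff_inter_open.2 fun G hG ⟨y, hy⟩ => ?_
        obtain ⟨η, hηy, hηx, hmem⟩ := hN y.1 y.2.2.2
        have hη : η ∈ U ⊓ V₂ := hmem _ y.2
        refine ⟨⟨η, hη⟩, ?_, ?_⟩
        · refine (((U ⊓ V₂).ι.isOpenEmbedding.isInducing.specializes_iff).1 ?_).mem_open hG hy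
          exact hηy
        · refine hO _ ?_
          rw [← Scheme.Hom.comp_apply, Scheme.homOfLE_ι]
          exact hηx
      refine eq_of_isSchematicallyDense pY (of_dense hd) _ _ ?_ ?_
      · simp only [Category.assoc, hv, hh, Scheme.homOfLE_ι_assoc]
      · calc (X.homOfLE hle ⁻¹ᵁ O).ι ≫ X.homOfLE (inf_le_right : U ⊓ V₂ ≤ V₂) ≫ X.homOfLE inf_le_left ≫ v
            = (X.homOfLE hle ⁻¹ᵁ O).ι ≫ X.homOfLE hle ≫ a := by simp [a, ← Category.assoc, M]
          _ = (X.homOfLE hle ⁻¹ᵁ O).ι ≫ X.homOfLE hle ≫ b := by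
            rw [← morphismRestrict_ι_assoc, hOe, morphismRestrict_ι_assoc]
          _ = _ := by simp [b, ← Category.assoc, M]

end Groth.Agent.RatDense
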